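import Groth.Agent.S0244
import Groth.Agent.S0247
import Groth.Agent.S0250
import Groth.Agent.SecExt.CodimOne
import Groth.Agent.Pi1Ext.PureDescent
import Groth.Agent.Pi1Ext.FAlg.General

/-!
# Finite étale covers under proper birational maps to regular schemes
-/

noncomputable section

set_option linter.style.haveILetI false
set_option backward.isDefEq.respectTransparency false
set_option backward.isDefEq.respectTransparency.types false

universe u

open CategoryTheory CategoryTheory.Limits AlgebraicGeometry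

namespace Groth.Agent.Pi1Birat

open Groth.Agent Groth.Agent.Pi1Ext

theorem isNormal_of_regular {Y : Scheme.{u}} (hY : ∀ y : Y, IsRegularLocalRing (Y.presheaf.stalk y)) :
    Pi1.IsNormalScheme Y := fun y => by
  haveI := hY y
  haveI := RegLoc6.isDomain_of_isRegularLocalRing (Y.presheaf.stalk y)
  exact ⟨inferInstance, RegLoc6.isIntegrallyClosed_of_isRegularLocalRing _⟩

/-- A proper birational morphism from a normal to a regular scheme identifies finite étale covers. -/
theorem isEquivalence {X Y : Scheme.{u}} [IsIntegral X] [IsIntegral Y] [IsNoetherian Y]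
    (hX : Pi1.IsNormalScheme X) (hY : ∀ y : Y, IsRegularLocalRing (Y.presheaf.stalk y))
    (f : X ⟶ Y) [IsProper f] (V : Y.Opens) (hV : (V : Set Y).Nonempty) [IsIso (f ∣_ V)] :
    (FEt.restrict f).IsEquivalence := by
  let W : X.Opens := f ⁻¹ᵁ V
  have hW : (W : Set X).Nonempty := by
    obtain ⟨y, hy⟩ := hV
    exact ⟨W.ι ((inv (f ∣_ V)).base ⟨y, hy⟩), ((inv (f ∣_ V)).base ⟨y, hy⟩).2⟩
  obtain ⟨hWfull, hWfaith⟩ := S0244.result hX W hW
  obtain ⟨hVfull, hVfaith⟩ := S0244.result (isNormal_of_regular hY) V hV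
  haveI := hWfull; haveI := hWfaith; haveI := hVfull; haveI := hVfaith
  haveI : (FEt.restrict (f ∣_ V)).IsEquivalence :=
    (PureDescent.restrictEquiv (asIso (f ∣_ V))).isEquivalence_functor
  let α : FEt.restrict f ⋙ FEt.restrict W.ι ≅ FEt.restrict V.ι ⋙ FEt.restrict (f ∣_ V) :=
    (MorphismProperty.Over.pullbackComp W.ι f (W.ι ≫ f) rfl).symm ≪≫
      MorphismProperty.Over.pullbackComp (f ∣_ V) V.ι (W.ι ≫ f) (morphismRestrict_ι f V).symm
  haveI : (FEt.restrict V.ι ⋙ FEt.restrict (f ∣_ V)).Full := Functor.Full.comp _ _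
  haveI : (FEt.restrict V.ι ⋙ FEt.restrict (f ∣_ V)).Faithful := Functor.Faithful.comp _ _
  haveI : (FEt.restrict f).Full :=
    Functor.Full.of_comp_faithful_iso (G := FEt.restrict W.ι) (H := FEt.restrict V.ι ⋙ FEt.restrict (f ∣_ V)) α
  haveI : (FEt.restrict f).Faithful := Functor.Faithful.of_comp_iso α
  haveI : (FEt.restrict f).EssSurj := ⟨fun Z => by
    let s : (V : Scheme.{u}) ⟶ X := inv (f ∣_ V) ≫ W.ι
    have hs : s ≫ f = V.ι := by
      show (_ ≫ _) ≫ f = _
      rw [Category.assoc, ← morphismRestrict_ι, IsIso.inv_hom_id_assoc]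
    obtain ⟨U, hVU, s', hs', hext, hcod⟩ := SecExt.exists_extension (fun y _ => hY y) f f.isClosedMap V
      (V.2.dense hV) s hs
    haveI := S0250.result U fun y hy => by
      haveI := hY y
      refine S0247.result _ ?_
      by_contra h
      exact hy (hcod y (by
        have h' := not_le.1 h
        revert h'
        generalize ringKrullDim (Y.presheaf.stalk y) = d
        intro h'
        cases d with
        | bot => exact bot_le
        | coe a =>
          have h2 : a < (1 : ℕ∞) + 1 := by rw [one_add_one_eq_two]; exact WithBot.coe_lt_coe.1 h'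
          exact_mod_cast Order.le_of_lt_add_one h2))
    let C := (FEt.restrict U.ι).objPreimage ((FEt.restrict s').obj Z)
    refine ⟨C, ⟨(FEt.restrict W.ι).preimageIso ?_⟩⟩
    let a : (W : Scheme.{u}) ⟶ U := (f ∣_ V) ≫ Y.homOfLE hVU
    have ha : a ≫ U.ι = W.ι ≫ f := by rw [Category.assoc, Scheme.homOfLE_ι, morphismRestrict_ι]
    have ha' : a ≫ s' = W.ι := by
      rw [Category.assoc, hext]
      exact IsIso.hom_inv_id_assoc _ _
    exact FAlg.compIso W.ι f C ≪≫ FAlg.congrIso ha.symm C ≪≫ (FAlg.compIso a U.ι C).symm ≪≫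
      (FEt.restrict a).mapIso ((FEt.restrict U.ι).objObjPreimageIso _) ≪≫ FAlg.compIso a s' Z ≪≫
      FAlg.congrIso ha' Z⟩
  exact { }

end Groth.Agent.Pi1Birat

end
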