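import Groth.Agent.Pi1X.FEtFull
import Groth.Agent.H23.FinCondSch
import Groth.Agent.S0066
import Groth.Prelude.Def_Pi1

/-! Restriction to a dense open of a normal locally noetherian scheme. -/

noncomputable section

set_option linter.style.haveILetI false
set_option backward.isDefEq.respectTransparency false
set_option backward.isDefEq.respectTransparency.types false

universe u

open CategoryTheory CategoryTheory.Limits AlgebraicGeometry

namespace Groth.Agent.Pi1Birat

open Groth.Agent

/-- Restriction to a dense open of a normal locally noetherian scheme is fully faithful. -/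
theorem restrict_dense_fullyFaithful {X : Scheme.{u}} [IsLocallyNoetherian X] (hX : Pi1.IsNormalScheme X)
    (U : X.Opens) (hU : Dense (U : Set X)) : (FEt.restrict U.ι).Full ∧ (FEt.restrict U.ι).Faithful := by
  have hC : ∀ C : Set X, IsClopen C → C.Nonempty → (C ∩ Set.range U.ι.base).Nonempty := fun C hC hne => by
    rw [Scheme.Opens.range_ι]
    exact hU.inter_open_nonempty C hC.2 hne
  refine ⟨Pi1X.restrict_full _ hC fun W C hC' => ?_, Pi1X.restrict_faithful _ hC⟩
  haveI : Etale W.hom := W.prop.2
  haveI : IsFinite W.hom := W.prop.1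
  haveI : IsLocallyNoetherian ((Functor.fromPUnit X).obj W.right) := ‹IsLocallyNoetherian X›
  haveI : IsLocallyNoetherian W.left := LocallyOfFiniteType.isLocallyNoetherian W.hom
  let j := pullback.fst W.hom U.ι
  have hjr : Set.range j.base = W.hom.base ⁻¹' (U : Set X) := by
    rw [Scheme.Pullback.range_fst, Scheme.Opens.range_ι]
  have hjd : Dense (Set.range j.base) := hjr ▸ hU.preimage W.hom.isOpenMap
  have hopen : ∀ D : Set ↥(pullback W.hom U.ι), IsOpen D → IsOpen (j.base '' D) := fun D hD =>
    j.isOpenEmbedding.isOpenMap D hD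
  have hu : closure (j.base '' C) ∪ closure (j.base '' Cᶜ) = Set.univ := by
    rw [← closure_union, ← Set.image_union, Set.union_compl_self, Set.image_univ]
    exact hjd.closure_eq
  have hdis : ∀ w : W.left, w ∈ closure (j.base '' C) → w ∈ closure (j.base '' Cᶜ) → False := by
    intro w h1 h2
    haveI : IsDomain (W.left.presheaf.stalk w) := ((S0066.result W.hom w).2 (hX _)).1
    obtain ⟨N, hwN, hN⟩ := H23.FinCondSch.exists_integral_nhd w
    haveI := hN
    haveI : PreirreducibleSpace ↥N := (inferInstance : IrreducibleSpace (N : Scheme.{u})).toPreirreducibleSpace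
    obtain ⟨a, haN, ha⟩ := mem_closure_iff.1 h1 N N.2 hwN
    obtain ⟨b, hbN, hb⟩ := mem_closure_iff.1 h2 N N.2 hwN
    obtain ⟨⟨c, hc⟩, hc1, hc2⟩ := nonempty_preirreducible_inter
      ((hopen C hC'.2).preimage (continuous_subtype_val (p := fun z => z ∈ N)))
      ((hopen _ hC'.1.isOpen_compl).preimage continuous_subtype_val) ⟨⟨a, haN⟩, ha⟩ ⟨⟨b, hbN⟩, hb⟩
    obtain ⟨c₁, hc₁, e₁⟩ := hc1
    obtain ⟨c₂, hc₂, e₂⟩ := hc2
    exact hc₂ ((j.isOpenEmbedding.injective (e₁.trans e₂.symm)) ▸ hc₁)
  refine ⟨closure (j.base '' C), ⟨isClosed_closure, ?_⟩, ?_⟩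
  · rw [show closure (j.base '' C) = (closure (j.base '' Cᶜ))ᶜ from Set.ext fun w =>
      ⟨fun h h' => hdis w h h', fun h => (show w ∈ closure (j.base '' C) ∪ closure (j.base '' Cᶜ) by rw [hu]; trivial).resolve_right h⟩]
    exact isClosed_closure.isOpen_compl
  · ext z
    refine ⟨fun hz => ?_, fun hz => subset_closure ⟨z, hz, rfl⟩⟩
    by_contra hzC
    exact hdis _ hz (subset_closure ⟨z, hzC, rfl⟩)

end Groth.Agent.Pi1Birat

end
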