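import Groth.Agent.Pi1Birat.Basic
import Groth.Agent.Pi1Birat.Dense

/-!
# Birational invariance of finite étale covers of proper regular schemes
-/

noncomputable section

set_option linter.style.haveILetI false
set_option backward.isDefEq.respectTransparency false
set_option backward.isDefEq.respectTransparency.types false

universe u

open CategoryTheory CategoryTheory.Limits AlgebraicGeometry

namespace Groth.Agent.Pi1Birat

open Groth.Agent Groth.Agent.Pi1Ext

variable {S X Y : Scheme.{u}}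

/-- A rational map to a proper scheme is defined in codimension one. -/
theorem exists_extension_map [IsLocallyNoetherian X] [IsReduced X]
    (hreg : ∀ x : X, ringKrullDim (X.presheaf.stalk x) ≤ 1 → IsRegularLocalRing (X.presheaf.stalk x))
    (f : X ⟶ S) (g : Y ⟶ S) [IsProper g] (U : X.Opens) (hU : Dense (U : Set X))
    (h : (U : Scheme.{u}) ⟶ Y) (hh : h ≫ g = U.ι ≫ f) :
    ∃ (U' : X.Opens) (hUU : U ≤ U') (φ : (U' : Scheme.{u}) ⟶ Y), X.homOfLE hUU ≫ φ = h ∧
      ∀ x : X, ringKrullDim (X.presheaf.stalk x) ≤ 1 → x ∈ U' := by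
  haveI : IsProper (pullback.fst f g) := inferInstance
  obtain ⟨U', hUU, s, -, hext, hcod⟩ := SecExt.exists_extension hreg (pullback.fst f g) (pullback.fst f g).isClosedMap
    U hU (pullback.lift U.ι h hh.symm) (pullback.lift_fst _ _ _)
  exact ⟨U', hUU, s ≫ pullback.snd f g, by rw [← Category.assoc, hext, pullback.lift_snd], hcod⟩

theorem exists_equivalence [IsNoetherian X] [IsNoetherian Y]
    (hX : ∀ x : X, IsRegularLocalRing (X.presheaf.stalk x)) (hY : ∀ y : Y, IsRegularLocalRing (Y.presheaf.stalk y))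
    (f : X ⟶ S) (g : Y ⟶ S) [IsProper f] [IsProper g] (U : X.Opens) (V : Y.Opens)
    (hU : Dense (U : Set X)) (hV : Dense (V : Set Y)) (e : (U : Scheme.{u}) ≅ (V : Scheme.{u}))
    (he : e.hom ≫ V.ι ≫ g = U.ι ≫ f) :
    ∃ Φ : FEt.Cat X ≌ FEt.Cat Y, Nonempty (FEt.restrict U.ι ≅ Φ.functor ⋙ FEt.restrict V.ι ⋙ FEt.restrict e.hom) := by
  haveI : IsReduced X := by
    haveI : ∀ x : X, _root_.IsReduced (X.presheaf.stalk x) := fun x => by
      haveI := (isNormal_of_regular hX x).1; infer_instance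
    exact isReduced_of_isReduced_stalk X
  haveI : IsReduced Y := by
    haveI : ∀ y : Y, _root_.IsReduced (Y.presheaf.stalk y) := fun y => by
      haveI := (isNormal_of_regular hY y).1; infer_instance
    exact isReduced_of_isReduced_stalk Y
  have equiv : ∀ {Z : Scheme.{u}} [IsNoetherian Z] (_ : ∀ z : Z, IsRegularLocalRing (Z.presheaf.stalk z)) (W : Z.Opens),
      Dense (W : Set Z) → (∀ z : Z, ringKrullDim (Z.presheaf.stalk z) ≤ 1 → z ∈ W) →
      (FEt.restrict W.ι).IsEquivalence := by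
    intro Z _ hZ W hW hcod
    obtain ⟨h1, h2⟩ := restrict_dense_fullyFaithful (isNormal_of_regular hZ) W hW
    haveI := S0250.result W fun z hz => by
      haveI := hZ z
      refine S0247.result _ ?_
      by_contra h
      refine hz (hcod z ?_)
      have h' := not_le.1 h
      revert h'
      generalize ringKrullDim (Z.presheaf.stalk z) = d
      intro h'
      cases d with
      | bot => exact bot_le
      | coe a =>
        have h2 : a < (1 : ℕ∞) + 1 := by rw [one_add_one_eq_two]; exact WithBot.coe_lt_coe.1 h'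
        exact_mod_cast Order.le_of_lt_add_one h2
    exact { }
  obtain ⟨Y', hVY, φ', hφ', hY'⟩ := exists_extension_map (fun y _ => hY y) g f V hV (e.inv ≫ U.ι) (by
    rw [Category.assoc, ← he, Iso.inv_hom_id_assoc])
  obtain ⟨X', hUX, φ, hφ, hX'⟩ := exists_extension_map (fun x _ => hX x) f g U hU (e.hom ≫ V.ι) (by
    rw [Category.assoc, he])
  haveI := equiv hY Y' (hV.mono hVY) hY'
  haveI := equiv hX X' (hU.mono hUX) hX'
  let F : FEt.Cat X ⥤ FEt.Cat Y := FEt.restrict φ' ⋙ (FEt.restrict Y'.ι).inv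
  let G : FEt.Cat Y ⥤ FEt.Cat (U : Scheme.{u}) := FEt.restrict V.ι ⋙ FEt.restrict e.hom
  have hle : Y.homOfLE hVY ≫ Y'.ι = V.ι := Scheme.homOfLE_ι _ _
  have hu : (e.hom ≫ Y.homOfLE hVY) ≫ φ' = U.ι := by rw [Category.assoc, hφ', Iso.hom_inv_id_assoc]
  let α : F ⋙ G ≅ FEt.restrict U.ι :=
    Functor.associator _ _ _ ≪≫ Functor.isoWhiskerLeft (FEt.restrict φ')
      (Functor.isoWhiskerLeft _ (Functor.isoWhiskerRight
          (MorphismProperty.Over.pullbackComp (Y.homOfLE hVY) Y'.ι V.ι hle.symm) (FEt.restrict e.hom) ≪≫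
          Functor.associator _ _ _) ≪≫
        (Functor.associator _ _ _).symm ≪≫
        Functor.isoWhiskerRight ((FEt.restrict Y'.ι).asEquivalence.counitIso) _ ≪≫ Functor.leftUnitor _ ≪≫
        (MorphismProperty.Over.pullbackComp e.hom (Y.homOfLE hVY) (e.hom ≫ Y.homOfLE hVY) rfl).symm) ≪≫
      (MorphismProperty.Over.pullbackComp (e.hom ≫ Y.homOfLE hVY) φ' U.ι hu.symm).symm
  obtain ⟨hUf, hUF⟩ := restrict_dense_fullyFaithful (isNormal_of_regular hX) U hU
  obtain ⟨hVf, hVF⟩ := restrict_dense_fullyFaithful (isNormal_of_regular hY) V hV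
  haveI := hUf; haveI := hUF; haveI := hVf; haveI := hVF
  haveI : (FEt.restrict e.hom).IsEquivalence := (PureDescent.restrictEquiv e).isEquivalence_functor
  haveI : G.Full := Functor.Full.comp _ _
  haveI : G.Faithful := Functor.Faithful.comp _ _
  haveI : F.Full := Functor.Full.of_comp_faithful_iso α
  haveI : F.Faithful := Functor.Faithful.of_comp_iso α
  haveI : F.EssSurj := ⟨fun Z => by
    let Z' := (FEt.restrict X'.ι).objPreimage ((FEt.restrict φ).obj Z)
    refine ⟨Z', ⟨G.preimageIso (α.app Z' ≪≫ ?_)⟩⟩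
    exact FAlg.congrIso (Scheme.homOfLE_ι X hUX).symm Z' ≪≫ (FAlg.compIso (X.homOfLE hUX) X'.ι Z').symm ≪≫
      (FEt.restrict (X.homOfLE hUX)).mapIso ((FEt.restrict X'.ι).objObjPreimageIso _) ≪≫
      FAlg.compIso (X.homOfLE hUX) φ Z ≪≫ FAlg.congrIso hφ Z ≪≫ (FAlg.compIso e.hom V.ι Z).symm⟩
  haveI : F.IsEquivalence := { }
  exact ⟨F.asEquivalence, ⟨α.symm⟩⟩

end Groth.Agent.Pi1Birat

end
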